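import Groth.Prelude.Def_CAlg
import Groth.Agent.RegularLocal.Basic
import Groth.Agent.IdealDepth.CM
import Mathlib.RingTheory.RegularLocalRing.Polynomial
import Mathlib.RingTheory.Regular.Flat
import Mathlib.RingTheory.RingHom.Flat
import Mathlib.RingTheory.Ideal.GoingUp

/-! Finite flat algebras over a regular ring are Cohen–Macaulay. -/

set_option autoImplicit false

universe u

open RingTheory.Sequence IsLocalRing

noncomputable section

namespace LeadCM

variable {P A : Type u} [CommRing P] [CommRing A] [Algebra P A]

lemma ringKrullDim_atPrime_le [Module.Finite P A] (q : Ideal A) [q.IsPrime] :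
    ringKrullDim (Localization.AtPrime q) ≤ ringKrullDim (Localization.AtPrime (q.under P)) := by
  refine Order.krullDim_le_of_strictMono
    (fun x => PrimeSpectrum.comap (Localization.localRingHom (q.under P) q (algebraMap P A) rfl) x) ?_
  intro x y hxy
  have hx : ∀ z : PrimeSpectrum (Localization.AtPrime q),
      (z.asIdeal.comap (algebraMap A (Localization.AtPrime q))).comap (algebraMap P A) =
      (PrimeSpectrum.comap (Localization.localRingHom (q.under P) q (algebraMap P A) rfl) z).asIdeal.comap
        (algebraMap P (Localization.AtPrime (q.under P))) := by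
    intro z
    ext a
    simp only [Ideal.mem_comap, PrimeSpectrum.comap_asIdeal, Localization.localRingHom_to_map]
  have hlt : x.asIdeal < y.asIdeal := hxy
  have hlt' : x.asIdeal.comap (algebraMap A (Localization.AtPrime q)) < y.asIdeal.comap (algebraMap A (Localization.AtPrime q)) := by
    refine lt_of_le_of_ne (Ideal.comap_mono hlt.le) fun e => hlt.ne ?_
    rw [← IsLocalization.map_under q.primeCompl (Localization.AtPrime q) x.asIdeal,
      ← IsLocalization.map_under q.primeCompl (Localization.AtPrime q) y.asIdeal]
    exact congrArg _ e
  haveI : (x.asIdeal.comap (algebraMap A (Localization.AtPrime q))).IsPrime := inferInstance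
  have hint := Ideal.comap_lt_comap_of_integral_mem_sdiff (R := P) hlt'.le
    (Set.not_subset.1 hlt'.not_ge |>.choose_spec) (Algebra.IsIntegral.isIntegral _)
  rw [hx, hx] at hint
  refine lt_of_le_of_ne (Ideal.comap_mono hlt.le) fun e => hint.ne ?_
  exact congrArg (fun z : PrimeSpectrum _ => z.asIdeal.comap (algebraMap P (Localization.AtPrime (q.under P)))) e

/-- A finite flat algebra over a regular ring is Cohen–Macaulay. -/
theorem cm_of_finite_flat [IsRegularRing P] [Module.Finite P A] [Module.Flat P A] :
    LocCoh.IsCohenMacaulayRing A := by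
  haveI : IsNoetherianRing A := IsNoetherianRing.of_finite P A
  refine { isCohenMacaulayLocalRing_localization := fun q hq => ?_ }
  refine { supportDim_eq_depth := ?_ }
  set p := q.under P
  let f := Localization.localRingHom p q (algebraMap P A) rfl
  have hf : f.Flat := RingHom.Flat.localRingHom (RingHom.flat_algebraMap_iff.2 inferInstance) q p rfl
  letI : Algebra (Localization.AtPrime p) (Localization.AtPrime q) := f.toAlgebra
  haveI : Module.Flat (Localization.AtPrime p) (Localization.AtPrime q) := hf
  obtain ⟨l, hlen, hgen⟩ := Groth.Agent.RegularLocal.Basic.exists_list_of_fg (IsNoetherian.noetherian (maximalIdeal (Localization.AtPrime p)))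
  have hreg := Groth.Agent.RegularLocal.Basic.isRegular_of_generators l hgen hlen.le
  have hreg' := hreg.toIsWeaklyRegular.of_flat (S := Localization.AtPrime q)
  refine le_antisymm ?_ (Groth.Agent.IdealDepth.depth_le_supportDim (M := Localization.AtPrime q))
  rw [Module.supportDim_self_eq_ringKrullDim]
  refine (ringKrullDim_atPrime_le (P := P) q).trans ?_
  rw [← IsRegularLocalRing.spanFinrank_maximalIdeal]
  refine (show ((maximalIdeal (Localization.AtPrime p)).spanFinrank : WithBot ℕ∞) ≤
    ((LocCoh.depth (Localization.AtPrime q) (Localization.AtPrime q) : ℕ∞) : WithBot ℕ∞) from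
      WithBot.coe_le_coe.2 ((Groth.Agent.IdealDepth.natCast_le_iff_exists (I := maximalIdeal (Localization.AtPrime q))
        (M := Localization.AtPrime q)).2 ⟨l.map (algebraMap (Localization.AtPrime p) (Localization.AtPrime q)), ⟨hreg', ?_⟩, by simp [hlen]⟩))
  · intro r hr
    obtain ⟨a, ha, rfl⟩ := List.mem_map.1 hr
    have hloc := Localization.isLocalHom_localRingHom p q (algebraMap P A) rfl
    have : a ∈ maximalIdeal (Localization.AtPrime p) := hgen ▸ Ideal.subset_span ha
    rw [mem_maximalIdeal, mem_nonunits_iff] at this ⊢
    exact fun hu => this (hloc.map_nonunit a hu)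

end LeadCM
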